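import Mathlib

/-!
# Project PRL (S5239): 3-groups of maximal class, pearls

Definitions only.  `MC p G n`: `G` has order `p ^ n` and nilpotency class `n - 1`
(maximal class when `n ≥ 3`).  `Z G i` is the upper central series.  `G1 G = C_G(Z_2(G))`.
-/

set_option autoImplicit false

namespace Cfsg.Agent.Lib.Helper18.PRL

open scoped commutatorElement

/-- `G` has order `p ^ n` and nilpotency class `n - 1`. -/
def MC (p : ℕ) (G : Type*) [Group G] (n : ℕ) : Prop :=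
  Nat.card G = p ^ n ∧ Group.nilpotencyClass G = n - 1

/-- The upper central series. -/
abbrev Z (G : Type*) [Group G] (i : ℕ) : Subgroup G := Subgroup.upperCentralSeries G i

/-- `G₁ = C_G(Z₂(G))`. -/
def G1 (G : Type*) [Group G] : Subgroup G :=
  Subgroup.centralizer (Subgroup.upperCentralSeries G 2 : Set G)

/-- `H` is a two-step centralizer of all levels `3 ≤ j ≤ n - 2`: `[H, Z_j] ≤ Z_{j-2}`. -/
def Hyp (G : Type*) [Group G] (n : ℕ) (H : Subgroup G) : Prop :=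
  ∀ j : ℕ, 3 ≤ j → j ≤ n - 2 → ∀ h ∈ H, ∀ z ∈ Z G j, ⁅h, z⁆ ∈ Z G (j - 2)

/-- `s` is uniform: for `2 ≤ j ≤ n - 2`, `g ∈ Z_j ∖ Z_{j-1}` implies `[g, s] ∉ Z_{j-2}`. -/
def Unif (G : Type*) [Group G] (n : ℕ) (s : G) : Prop :=
  ∀ j : ℕ, 2 ≤ j → j ≤ n - 2 → ∀ g ∈ Z G j, g ∉ Z G (j - 1) → ⁅g, s⁆ ∉ Z G (j - 2)

end Cfsg.Agent.Lib.Helper18.PRL
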