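import Mathlib
import Cfsg.Agent.Lib.Helper18.PRL.Defs
import Cfsg.Agent.Lib.Helper18.PRLKEYa
import Cfsg.Agent.Lib.Helper18.PRLKEYb
import Cfsg.Agent.Lib.Helper18.PRLTS
import Cfsg.Agent.Lib.Helper18.PRLZS
import Cfsg.Agent.Lib.Helper11.PRLUNI
import Cfsg.Agent.Lib.Helper12.PRLG1a
import Cfsg.Agent.Lib.Helper25.PRLKEYd
import Cfsg.Agent.Lib.helper23.PRLCH1
import Cfsg.Agent.Lib.helper23.PRLCH3
import Cfsg.Agent.Lib.helper23.PRLCH4
import Cfsg.Agent.Lib.helper23.PRLCH5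
import Cfsg.Agent.Lib.helper23.PRLCH6

set_option autoImplicit false

namespace Cfsg.Agent.Lib.Helper18.PRL

open scoped commutatorElement

universe u

variable {G : Type u} [Group G] [Finite G] {n : ℕ}

/-- KEY: a maximal subgroup which is a two-step centralizer of all levels `≥ 3` also
centralizes `Z₂`. -/
theorem hyp_le_G1 (h : MC 3 G n) (hn : 5 ≤ n) (H : Subgroup G) (hH : H.index = 3)
    (hyp : Hyp G n H) : H ≤ G1 G := by
  by_contra hne
  obtain ⟨s, x0, hx0H, hx0M, hsH, hsM, hsxH, hsxM⟩ := key_setup h hn H hH hne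
  have hGH : commutator G ≤ H := commutator_le_of_index h H hH
  have hGM : commutator G ≤ G1 G := commutator_le_G1 G
  have hs : Unif G n s := unif_of_notMem h (by omega) H hH hyp s hsH hsM
  have hsg : ∀ g ∈ commutator G, Unif G n (s * g) := by
    intro g hg
    refine unif_of_notMem h (by omega) H hH hyp (s * g) ?_ ?_
    · intro hc
      exact hsH (by simpa using H.mul_mem hc (H.inv_mem (hGH hg)))
    · intro hc
      exact hsM (by simpa using (G1 G).mul_mem hc ((G1 G).inv_mem (hGM hg)))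
  obtain ⟨hexp, -, -⟩ := Z2_exp_Z3_cube h hn s hs hsg
  -- the common ending
  have fin : ∀ x : G, x ∈ H → x ∈ Z G 4 → x ∉ Z G 3 → Unif G n (s * x) →
      x0 * x ^ 3 = x ^ 3 * x0 → False := by
    intro x hxH hx4 hx3 hsx hcomm
    obtain ⟨z, hz2, hz1, hxz⟩ := key_cube h hn H hH hyp s x hsH hxH hx4 hx3 hs hsg hsx
    apply hx0M
    refine mem_G1_of_comm h (by omega) z hz2 hz1 x0 ?_
    have hc : x ^ 3 * z ∈ Subgroup.center G := by
      have := hxz
      rwa [Z, Subgroup.upperCentralSeries_one] at this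
    have h1 : x0 * (x ^ 3 * z) = (x ^ 3 * z) * x0 := Subgroup.mem_center_iff.mp hc x0
    have h2 : z = (x ^ 3)⁻¹ * (x ^ 3 * z) := by group
    have h3 : x0 * (x ^ 3)⁻¹ = (x ^ 3)⁻¹ * x0 := by
      have : (x ^ 3)⁻¹ * (x0 * x ^ 3) * (x ^ 3)⁻¹ = (x ^ 3)⁻¹ * (x ^ 3 * x0) * (x ^ 3)⁻¹ := by
        rw [hcomm]
      simpa [mul_assoc] using this.symm
    calc x0 * z = x0 * ((x ^ 3)⁻¹ * (x ^ 3 * z)) := by rw [← h2]
      _ = (x0 * (x ^ 3)⁻¹) * (x ^ 3 * z) := by group
      _ = ((x ^ 3)⁻¹ * x0) * (x ^ 3 * z) := by rw [h3]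
      _ = (x ^ 3)⁻¹ * (x0 * (x ^ 3 * z)) := by group
      _ = (x ^ 3)⁻¹ * ((x ^ 3 * z) * x0) := by rw [h1]
      _ = ((x ^ 3)⁻¹ * (x ^ 3 * z)) * x0 := by group
      _ = z * x0 := by rw [← h2]
  rcases Nat.lt_or_ge n 6 with hn6 | hn6
  · -- n = 5
    have hn5 : n = 5 := by omega
    subst hn5
    have htop : Z G 4 = ⊤ := Z_top h (by omega)
    have hcomm : commutator G = Z G 3 := commutator_eq_Z h (by omega)
    refine fin x0 hx0H (htop ▸ Subgroup.mem_top x0) ?_ ?_ (by rw [← pow_succ', ← pow_succ])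
    · intro hc
      exact hx0M (hGM (hcomm ▸ hc))
    · exact unif_of_notMem h (by omega) H hH hyp (s * x0) hsxH hsxM
  · -- n ≥ 6
    have h4 : Nat.card (Z G 4) = 3 ^ 4 := card_Z h (by omega) 4 (by omega)
    have h3 : Nat.card (Z G 3) = 3 ^ 3 := card_Z h (by omega) 3 (by omega)
    have hlt : ¬ Z G 4 ≤ Z G 3 := by
      intro hle
      have := Subgroup.card_le_of_le hle
      rw [h4, h3] at this
      norm_num at this
    obtain ⟨x, hx4, hx3⟩ := SetLike.not_le_iff_exists.mp hlt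
    have hcomm : commutator G = Z G (n - 2) := commutator_eq_Z h (by omega)
    have hxc : x ∈ commutator G := by
      rw [hcomm]
      exact Subgroup.upperCentralSeries_mono G (by omega : 4 ≤ n - 2) hx4
    refine fin x (hGH hxc) hx4 hx3 (hsg x hxc) ?_
    exact comm_cube_of_hyp h hn6 H hyp hexp x x0 hx4 hx0H

/-- All two-step centralizers of a 3-group of maximal class coincide with `G₁ = C_G(Z₂)`. -/
theorem G1_hyp (h : MC 3 G n) (hn : 4 ≤ n) : Hyp G n (G1 G) :=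
  G1_hyp_of_key (fun _ _ _ _ hm hm5 H hH hyp => hyp_le_G1 hm hm5 H hH hyp) n G h hn

end Cfsg.Agent.Lib.Helper18.PRL
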