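import Mathlib
import Cfsg.Agent.Lib.Helper18.PRL.Key
import Cfsg.Agent.Lib.Helper18.PRLC3
import Cfsg.Agent.Lib.Helper25.PRLCN
import Cfsg.Agent.Lib.helper23.PRLMCY
import Cfsg.Agent.Lib.Helper11.PRLSR2
import Cfsg.Agent.Lib.Helper20.PRLSR1
import Cfsg.Agent.Lib.Helper20.PRLSR3

set_option autoImplicit false

namespace Cfsg.Agent.Lib.Helper18.PRL

open scoped commutatorElement

universe u

variable {G : Type u} [Group G] [Finite G] {n : ℕ}

/-- Elements of order dividing 3 of `G₁` lie in `Z₂`. -/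
theorem omega_le_Z2 (h : MC 3 G n) (hn : 5 ≤ n) : ∀ x ∈ G1 G, x ^ 3 = 1 → x ∈ Z G 2 := by
  intro x hx1 hx3
  have hyp := G1_hyp h (by omega : 4 ≤ n)
  have htop : Z G (n - 1) = ⊤ := Z_top h (by omega)
  have hex : ∃ j : ℕ, x ∈ Z G j := ⟨n - 1, htop ▸ Subgroup.mem_top x⟩
  classical
  have hmin : ∀ m : ℕ, m < Nat.find hex → x ∉ Z G m := fun m hm => Nat.find_min hex hm
  have hj := Nat.find_spec hex
  have hjle : Nat.find hex ≤ n - 1 := Nat.find_min' hex (htop ▸ Subgroup.mem_top x)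
  generalize Nat.find hex = j at hmin hj hjle
  by_contra hx2
  have hj3 : 3 ≤ j := by
    by_contra hlt
    exact hx2 (Subgroup.upperCentralSeries_mono G (by omega : j ≤ 2) hj)
  have hnot : x ∉ Z G (j - 1) := hmin (j - 1) (by omega)
  rcases Nat.lt_or_ge j 4 with hj4 | hj4
  · have hj3' : j = 3 := by omega
    rw [hj3'] at hj hnot
    exact hnot (order_three_Z3 h hn hyp x hj hx3)
  · have := cube_notMem h hn hyp j hj4 hjle x hx1 hj hnot
    rw [hx3] at this
    exact this (Subgroup.one_mem _)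

/-- Every subgroup of a 3-group of maximal class of order at least `3 ^ 5` is generated by
two elements. -/
theorem rank_two (h : MC 3 G n) (hn : 5 ≤ n) (H : Subgroup G) :
    ∃ T : Finset G, T.card ≤ 2 ∧ Subgroup.closure (T : Set G) = H := by
  have hyp := G1_hyp h (by omega : 4 ≤ n)
  by_cases hH : H ≤ G1 G
  · exact two_gen_of_le_metacyclic (G1 G) (G1_metacyclic h hn (omega_le_Z2 h hn)) H hH
  · obtain ⟨s, hsH, hsM⟩ := SetLike.not_le_iff_exists.mp hH
    have hP : IsPGroup 3 G := IsPGroup.of_card h.1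
    exact two_gen_of_card_centralizer hP s (card_centralizer_le h (by omega) hyp s hsM) H hsH

end Cfsg.Agent.Lib.Helper18.PRL
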